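import Cfsg.Agent.H612.CoT.Gens
import Cfsg.Agent.H819.TypeTwoC

/-!
# 2.B: from `Spor.Co2` to the stabiliser of a vector of type 2 in `Co1` (helper253)

`F23h v l` : `l = [a, b]` with `a`, `b` fixing `v`, `⟨a, b⟩` containing an element of order 23 and an `h` with
`v ∈ [L2, h]`.  `F23t t₀ t₁ l` : the same inside `Spor.Co2` with `h` conjugate to `t₀` or `t₁`; `f23h_of`: the generators
`tt 0`, `tt 1` of helper612 satisfy `w + tt j • w = cl leechU`.
-/

set_option autoImplicit false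
set_option maxRecDepth 100000

namespace Cfsg.Agent.H253.TwoB

open Cfsg Cfsg.Spor Cfsg.Agent.LeechMat.Core Cfsg.Agent.LeechMat.Elements Cfsg.Agent.LeechMat.Orbit
  Cfsg.Agent.MonsterU.Lam2 Cfsg.Agent.H819.TypeTwo Cfsg.Agent.H612.CoT.Gens

/-- `l` is a commutator in the stabiliser of `v`, of a pair generating a group with an element of order 23 and an `h` with
`v ∈ [L2, h]` -/
def F23h (v : L2) (l : Co1) : Prop := ∃ a b : Co1, a • v = v ∧ b • v = v ∧ l = a * b * a⁻¹ * b⁻¹ ∧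
  (∃ y ∈ Subgroup.closure ({a, b} : Set Co1), orderOf y = 23) ∧
  ∃ h ∈ Subgroup.closure ({a, b} : Set Co1), ∃ w : L2, w + h • w = v

/-- `l = [a, b]`, `⟨a, b⟩` contains an element of order 23 and a conjugate of `t₀` or `t₁` -/
def F23t {L : Type*} [Group L] (t₀ t₁ l : L) : Prop := ∃ a b : L, l = a * b * a⁻¹ * b⁻¹ ∧
  (∃ y ∈ Subgroup.closure ({a, b} : Set L), orderOf y = 23) ∧
  ∃ h ∈ Subgroup.closure ({a, b} : Set L), ∃ x : L, h = x * t₀ * x⁻¹ ∨ h = x * t₁ * x⁻¹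

theorem F23t.conj {L : Type*} [Group L] {t₀ t₁ l : L} (h : F23t t₀ t₁ l) (x : L) : F23t t₀ t₁ (x * l * x⁻¹) := by
  obtain ⟨a, b, e, ⟨y, hy, hyr⟩, c, hc, u, hu⟩ := h
  have key : ∀ d ∈ Subgroup.closure ({a, b} : Set L),
      x * d * x⁻¹ ∈ Subgroup.closure ({x * a * x⁻¹, x * b * x⁻¹} : Set L) := by
    intro d hd
    have h1 : x * d * x⁻¹ ∈ (Subgroup.closure ({a, b} : Set L)).map (MulAut.conj x).toMonoidHom := ⟨d, hd, rfl⟩
    rw [MonoidHom.map_closure, Set.image_pair] at h1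
    exact h1
  refine ⟨x * a * x⁻¹, x * b * x⁻¹, by rw [e]; group, ⟨x * y * x⁻¹, key y hy, ?_⟩, x * c * x⁻¹, key c hc, x * u, ?_⟩
  · rw [← hyr]
    exact MulEquiv.orderOf_eq (MulAut.conj x) y
  · rcases hu with hu | hu
    · exact Or.inl (by rw [hu]; group)
    · exact Or.inr (by rw [hu]; group)

/-! ### the vectors -/

/-- the vectors `w₀`, `w₁` -/
def wc : ℕ → ℕ
  | 0 => 0x93a1284210741d28420e749d094212
  | _ => 0x8c62d8c6319bded6c5f18c62f7c5f3

/-- their images under `tt 0`, `tt 1` -/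
def gc : ℕ → ℕ
  | 0 => 0x94a0e842109424e8421293a5074212
  | _ => 0x9bdef7bdf38c5af7be2f9cdf18be31

/-- the halves of `w + tt j • w - U` -/
def yc : ℕ → ℕ
  | 0 => 0x842108421084210842108421084210
  | _ => 0x8420e84212941ce7421094a1084210

/-- the vector `w₀` or `w₁` -/
def wv (j : ℕ) (h : isLeech (wc j) = true) : leechLattice := ⟨vec (wc j), isLeech_sound h⟩

theorem link_aux (j : ℕ) (h1 : isLeech (wc j) = true) (h2 : isLeech (yc j) = true)
    (h3 : decide (dotc (wc j) (wc j) ≤ 225) = true) (h4 : Nat.blt (gc j) (32 ^ 24) = true)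
    (h5 : (appc (cols j) (wc j) == (8 : ℤ) * val (gc j)) = true)
    (h6 : ∀ p, vec (wc j) p + vec (gc j) p - vec (cA 0) p = 2 * vec (yc j) p) :
    ∃ w : L2, w + jCo2 (tt j) • w = cl leechU := by
  have e1 : ((gg j • (wv j h1) : leechLattice) : GolayPt → ℤ) = vec (gc j) :=
    (gg_rep j).step rfl (by
      show sqNorm (vec (wc j)) ≤ 225
      rw [sqNorm_eq_dotInt, ← dotc_eq]
      exact of_decide_eq_true h3) (by rwa [Nat.blt_eq] at h4) (beq_iff_eq.1 h5)
  refine ⟨cl (wv j h1), ?_⟩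
  rw [jCo2_smul, ← map_add, cl_eq]
  refine ⟨⟨vec (yc j), isLeech_sound h2⟩, ?_⟩
  apply Subtype.ext
  funext p
  have e2 : ((tt j • (wv j h1) : leechLattice) : GolayPt → ℤ) = vec (gc j) := e1
  have e3 := congrFun e2 p
  have e4 := congrFun coe_U p
  have e5 := h6 p
  show vec (wc j) p + ((tt j • (wv j h1) : leechLattice) : GolayPt → ℤ) p - ((leechU : leechLattice) : GolayPt → ℤ) p
    = ((2 • (⟨vec (yc j), isLeech_sound h2⟩ : leechLattice) : leechLattice) : GolayPt → ℤ) p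
  rw [e3, e4, e5, two_smul]
  show _ = vec (yc j) p + vec (yc j) p
  ring

/-- **`w + tt j • w = cl leechU`**, `j = 0, 1` -/
theorem exists_w : ∀ j < 2, ∃ w : L2, w + jCo2 (tt j) • w = cl leechU
  | 0, _ => link_aux 0 (by decide +kernel) (by decide +kernel) (by decide +kernel) (by decide +kernel)
      (by decide +kernel) (by decide +kernel)
  | 1, _ => link_aux 1 (by decide +kernel) (by decide +kernel) (by decide +kernel) (by decide +kernel)
      (by decide +kernel) (by decide +kernel)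
  | _ + 2, h => absurd h (by omega)

/-! ### the link -/

theorem f23h_jCo2 {l : Spor.Co2} (h : F23t (tt 0) (tt 1) l) : F23h (cl leechU) (jCo2 l) := by
  obtain ⟨a, b, e, ⟨y, hy, hyr⟩, c, hc, u, hu⟩ := h
  have key : ∀ d ∈ Subgroup.closure ({a, b} : Set Spor.Co2),
      jCo2 d ∈ Subgroup.closure ({jCo2 a, jCo2 b} : Set Co1) := by
    intro d hd
    have h1 : jCo2 d ∈ (Subgroup.closure ({a, b} : Set Spor.Co2)).map jCo2 := ⟨d, hd, rfl⟩
    rw [MonoidHom.map_closure, Set.image_pair] at h1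
    exact h1
  refine ⟨jCo2 a, jCo2 b, jCo2_fix a, jCo2_fix b, by rw [e]; simp only [map_mul, map_inv], ⟨jCo2 y, key y hy, ?_⟩,
    jCo2 c, key c hc, ?_⟩
  · rw [orderOf_injective jCo2 jCo2_injective, hyr]
  · have h2 : ∀ t : Spor.Co2, (∃ w : L2, w + jCo2 t • w = cl leechU) → c = u * t * u⁻¹ →
        ∃ w : L2, w + jCo2 c • w = cl leechU := by
      rintro t ⟨w, hw⟩ rfl
      refine ⟨jCo2 u • w, ?_⟩
      have e3 : jCo2 (u * t * u⁻¹) • jCo2 u • w = jCo2 u • jCo2 t • w := by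
        rw [← mul_smul, ← mul_smul, ← map_mul, ← map_mul, inv_mul_cancel_right]
      rw [e3, ← smul_add, hw, jCo2_fix]
    rcases hu with hu | hu
    · exact h2 _ (exists_w 0 (by norm_num)) hu
    · exact h2 _ (exists_w 1 (by norm_num)) hu

theorem F23h.conj {v : L2} {l : Co1} (h : F23h v l) (g : Co1) : F23h (g • v) (g * l * g⁻¹) := by
  obtain ⟨a, b, ha, hb, e, ⟨y, hy, hyr⟩, c, hc, w, hw⟩ := h
  have key : ∀ d ∈ Subgroup.closure ({a, b} : Set Co1),
      g * d * g⁻¹ ∈ Subgroup.closure ({g * a * g⁻¹, g * b * g⁻¹} : Set Co1) := by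
    intro d hd
    have h1 : g * d * g⁻¹ ∈ (Subgroup.closure ({a, b} : Set Co1)).map (MulAut.conj g).toMonoidHom := ⟨d, hd, rfl⟩
    rw [MonoidHom.map_closure, Set.image_pair] at h1
    exact h1
  have h3 : ∀ d : Co1, ∀ x : L2, (g * d * g⁻¹) • g • x = g • d • x := fun d x => by
    rw [← mul_smul, inv_mul_cancel_right, mul_smul]
  refine ⟨g * a * g⁻¹, g * b * g⁻¹, by rw [h3, ha], by rw [h3, hb], by rw [e]; group, ⟨g * y * g⁻¹, key y hy, ?_⟩,
    g * c * g⁻¹, key c hc, g • w, by rw [h3, ← smul_add, hw]⟩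
  rw [← hyr]
  exact MulEquiv.orderOf_eq (MulAut.conj g) y

/-- **P4**: the table of `Spor.Co2` for all vectors of type 2. -/
theorem f23h_of (H : ∀ l : Spor.Co2, l ≠ 1 → ((∃ k, orderOf l = 2 ^ k) ∨ orderOf l = 3) → F23t (tt 0) (tt 1) l)
    {v : L2} (hv : IsType 2 v) {l : Co1} (hl : l • v = v) (h1 : l ≠ 1)
    (ho : (∃ k, orderOf l = 2 ^ k) ∨ orderOf l = 3) : F23h v l := by
  have hU : IsType 2 (cl leechU) := ⟨leechU, sqNorm_leechU, rfl⟩
  obtain ⟨g0, hg⟩ := IsType.trans (Or.inl rfl) hU hv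
  set g : Co1 := QuotientGroup.mk g0 with hgdef
  have hg' : g • cl leechU = v := by rw [hgdef, mk_smul]; exact hg
  have h2 : (g⁻¹ * l * g) • cl leechU = cl leechU := by
    rw [mul_smul, mul_smul, hg', hl, ← hg', inv_smul_smul]
  obtain ⟨m, hm⟩ := exists_jCo2 h2
  have h3 : g * jCo2 m * g⁻¹ = l := by rw [hm]; group
  have h4 : orderOf m = orderOf l := by
    rw [← orderOf_injective jCo2 jCo2_injective, ← h3]
    exact (MulEquiv.orderOf_eq (MulAut.conj g) _).symm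
  have h5 : m ≠ 1 := by
    rintro rfl
    apply h1
    rw [← h3, map_one, mul_one, mul_inv_cancel]
  rw [← h3, ← hg']
  exact (f23h_jCo2 (H m h5 (by rw [h4]; exact ho))).conj g

end Cfsg.Agent.H253.TwoB
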